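import Cfsg.Agent.H210.TC.Row

/-!
# S4173, S2464, S2452: one rational class of order seven (helper763)

`conj_of_sylow` : if `p²` does not divide `|G|` and `x`, of order `p`, is conjugate to a power generating the powers, then
all elements of order `p` are conjugate to `x`. `row3_of_seven` : if moreover `p = 7` and every element is a product of two
elements with seventh power one, then `Row3 G`.
-/

set_option autoImplicit false

namespace Cfsg.Agent.H763.TC

open Cfsg.Agent.H210.TC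

theorem conj_of_sylow {G : Type*} [Group G] [Finite G] {p : ℕ} (hp : p.Prime) (hc : ¬ p ^ 2 ∣ Nat.card G) {x h : G}
    (hx : orderOf x = p) {m : ℕ} (hh : h * x * h⁻¹ = x ^ m)
    (hm : ∀ k < p, k ≠ 0 → ∃ j, m ^ j % p = k) {y : G} (hy : orderOf y = p) : ∃ u, y = u * x * u⁻¹ := by
  have : Fact p.Prime := ⟨hp⟩
  classical
  have hd : p ∣ Nat.card G := hx ▸ orderOf_dvd_natCard x
  have hf : (Nat.card G).factorization p = 1 := by
    have h0 : Nat.card G ≠ 0 := Nat.card_pos.ne'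
    have h1 : 1 ≤ (Nat.card G).factorization p := (hp.dvd_iff_one_le_factorization h0).1 hd
    have h2 : ¬ 2 ≤ (Nat.card G).factorization p := fun h2 => hc ((hp.pow_dvd_iff_le_factorization h0).2 h2)
    omega
  have hcx : Nat.card (Subgroup.zpowers x) = p ^ (Nat.card G).factorization p := by
    rw [hf, pow_one, Nat.card_zpowers, hx]
  have hcy : Nat.card (Subgroup.zpowers y) = p ^ (Nat.card G).factorization p := by
    rw [hf, pow_one, Nat.card_zpowers, hy]
  obtain ⟨g, hg⟩ := MulAction.exists_smul_eq G (Sylow.ofCard (Subgroup.zpowers y) hcy) (Sylow.ofCard (Subgroup.zpowers x) hcx)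
  have h1 : g * y * g⁻¹ ∈ Subgroup.zpowers x := by
    have h2 : g * y * g⁻¹ ∈ ((g • Sylow.ofCard (Subgroup.zpowers y) hcy : Sylow p G) : Subgroup G) := by
      rw [Sylow.coe_subgroup_smul]
      exact Subgroup.smul_mem_pointwise_smul y (MulAut.conj g) _ (Subgroup.mem_zpowers y)
    rw [hg] at h2
    exact h2
  rw [← mem_powers_iff_mem_zpowers, mem_powers_iff_mem_range_orderOf, Finset.mem_image] at h1
  obtain ⟨k, hk, e⟩ := h1
  rw [Finset.mem_range, hx] at hk
  have e' : x ^ k = g * y * g⁻¹ := e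
  have hk0 : k ≠ 0 := by
    rintro rfl
    rw [pow_zero] at e'
    have h2 : y = 1 := by
      have h3 : y = g⁻¹ * (g * y * g⁻¹) * g := by group
      rw [h3, ← e']
      group
    rw [h2, orderOf_one] at hy
    exact hp.one_lt.ne hy
  obtain ⟨j, hj⟩ := hm k hk hk0
  have h2 : ∀ i : ℕ, h ^ i * x * (h ^ i)⁻¹ = x ^ m ^ i := by
    intro i
    induction i with
    | zero => simp
    | succ i ih =>
      rw [pow_succ' h, show h * h ^ i * x * (h * h ^ i)⁻¹ = h * (h ^ i * x * (h ^ i)⁻¹) * h⁻¹ by group, ih, ← conj_pow,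
        hh, ← pow_mul, pow_succ' m]
  have h3 : x ^ k = x ^ m ^ j := by
    rw [← hj, ← hx]
    exact pow_mod_orderOf x _
  refine ⟨g⁻¹ * h ^ j, ?_⟩
  calc y = g⁻¹ * (g * y * g⁻¹) * g := by group
    _ = g⁻¹ * (h ^ j * x * (h ^ j)⁻¹) * g := by rw [← e', h3, h2]
    _ = _ := by group

/-- one rational class of order `7`, Sylow subgroups of order `7`, every element a product of two elements with seventh
power one -/
theorem row3_of_seven {G : Type*} [Group G] [Finite G] (hc : ¬ 7 ^ 2 ∣ Nat.card G) {x h : G} (hx : orderOf x = 7)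
    (hh : h * x * h⁻¹ = x ^ 3) (hq : ∀ g : G, ∃ a b : G, g = a * b ∧ a ^ 7 = 1 ∧ b ^ 7 = 1) : Row3 G := by
  have h7 : Nat.Prime 7 := by norm_num
  have hm : ∀ k < 7, k ≠ 0 → ∃ j, 3 ^ j % 7 = k := by
    intro k hk hk0
    interval_cases k
    · exact absurd rfl hk0
    · exact ⟨0, rfl⟩
    · exact ⟨2, rfl⟩
    · exact ⟨1, rfl⟩
    · exact ⟨4, rfl⟩
    · exact ⟨5, rfl⟩
    · exact ⟨3, rfl⟩
  have hcl : ∀ y : G, y ^ 7 = 1 → y ≠ 1 → ∃ u, y = u * x * u⁻¹ := fun y hy hy1 =>
    conj_of_sylow h7 hc hx hh hm (by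
      have : Fact (Nat.Prime 7) := ⟨h7⟩
      exact orderOf_eq_prime hy hy1)
  -- the case of an element of order seven: `g = g⁴ g⁴`
  have h4 : ∀ g : G, g ^ 7 = 1 → g ≠ 1 → ∃ u v : G, g = (u * x * u⁻¹) * (v * x * v⁻¹) := by
    intro g hg hg1
    have e : g = g ^ 4 * g ^ 4 := by
      rw [← pow_add, show 4 + 4 = 7 + 1 from rfl, pow_add, hg, one_mul, pow_one]
    obtain ⟨u, hu⟩ := hcl (g ^ 4) (by rw [← pow_mul, mul_comm, pow_mul, hg, one_pow]) (by
      intro h0
      rw [h0, one_mul] at e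
      exact hg1 e)
    exact ⟨u, u, by rw [← hu]; exact e⟩
  refine Row3.of_sq (x := x) (by rw [hx]; exact h7) (by rw [hx]; decide) fun g hg => ?_
  obtain ⟨a, b, e, ha, hb⟩ := hq g
  by_cases ha1 : a = 1
  · rw [ha1, one_mul] at e
    exact h4 g (by rw [e, hb]) hg
  by_cases hb1 : b = 1
  · rw [hb1, mul_one] at e
    exact h4 g (by rw [e, ha]) hg
  obtain ⟨u, hu⟩ := hcl a ha ha1
  obtain ⟨v, hv⟩ := hcl b hb hb1
  exact ⟨u, v, by rw [e, ← hu, ← hv]⟩

end Cfsg.Agent.H763.TC
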