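import Cfsg.Agent.H763.Co3.Fin
import Cfsg.Agent.H763.TC.Gen

/-!
# S4173, S2464, S2452: the row `Co3` (helper763)

Every element of `Co3` is a product of two elements of order `7` (or `1`), one certificate for each of the 42 classes; the
elements of order `7` form one class (Sylow, and `h x h⁻¹ = x³`).
-/

set_option autoImplicit false
set_option maxRecDepth 1000000
set_option exponentiation.threshold 5000

namespace Cfsg.Agent.H763.TC.Co3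

open Cfsg Cfsg.Agent.H123.Cls Cfsg.Agent.H763.Cls Cfsg.Agent.H763.Co3.Dat Cfsg.Agent.H763.Co3.Fin Cfsg.Agent.Lib.BitNet
open Cfsg.Agent.H763.Co3.Model (N A_conj card_N tabs_ok)
open Cfsg.Agent.H210.TC (Row3)
open Cfsg.Agent.Lib.BitNetSimple (force force_eq)

theorem t0 : chkQ 10 gens bs p0 7 [1, 11, 15, 2, 15]
    [7, 10, 7, 3, 9, 4, 3, 12, 11] = true := by decide +kernel

theorem t1 : chkQ 10 gens bs p1 7 []
    [] = true := by decide +kernel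

theorem t2 : chkQ 10 gens bs p2 7 [1, 4, 3, 7, 5]
    [13, 15, 11, 12, 9, 3, 0, 2, 4, 1, 8, 11, 9, 12, 10] = true := by decide +kernel

theorem t3 : chkQ 10 gens bs p3 7 [0, 2, 4, 13, 15]
    [7, 5, 12, 10, 8, 6, 3, 4, 1, 5, 11, 14, 13, 9, 12] = true := by decide +kernel

theorem t4 : chkQ 10 gens bs p4 7 [1, 4, 5, 7, 3]
    [11, 15, 13, 12, 9, 2, 4, 0, 3, 12, 10, 11, 8] = true := by decide +kernel

theorem t5 : chkQ 10 gens bs p5 7 [4, 3, 7, 1, 13]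
    [5, 9, 15, 2, 3, 1, 10, 11, 12, 9, 11] = true := by decide +kernel

theorem t6 : chkQ 10 gens bs p6 7 [3, 7, 2, 0]
    [8, 10, 4, 6, 15, 11, 14, 12] = true := by decide +kernel

theorem t7 : chkQ 10 gens bs p7 7 [2, 0, 3, 7]
    [15, 11, 8, 5, 7, 3, 13, 10, 11, 15] = true := by decide +kernel

theorem t8 : chkQ 10 gens bs p8 7 [0, 7, 2, 11]
    [3, 10, 15, 8, 2, 7, 3, 5, 15, 10, 13, 11] = true := by decide +kernel

theorem t9 : chkQ 10 gens bs p9 7 [7, 3, 2, 0, 7]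
    [15, 8, 10, 7, 1, 11, 15, 9, 15] = true := by decide +kernel

theorem t10 : chkQ 10 gens bs p10 7 [2, 0, 7, 11]
    [3, 10, 15, 8] = true := by decide +kernel

theorem t11 : chkQ 10 gens bs p11 7 [2, 0, 11, 15]
    [7, 3, 8, 7, 1, 0, 15, 10, 8, 9] = true := by decide +kernel

theorem t12 : chkQ 10 gens bs p12 7 [7, 2, 14, 7, 13]
    [5, 15, 6, 10, 3, 4, 7, 11, 15, 15, 12] = true := by decide +kernel

theorem t13 : chkQ 10 gens bs p13 7 [5, 7, 2, 12, 7]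
    [15, 4, 10, 15, 0, 7, 2, 8, 13, 10, 15] = true := by decide +kernel

theorem t14 : chkQ 10 gens bs p14 7 [7, 2, 0, 4, 5]
    [13, 12, 8, 5, 0, 10, 15, 8, 13] = true := by decide +kernel

theorem t15 : chkQ 10 gens bs p15 7 [6, 7, 5, 4, 3]
    [11, 12, 13, 15, 2, 7, 5, 10, 14, 13, 15] = true := by decide +kernel

theorem t16 : chkQ 10 gens bs p16 7 [2, 8, 15, 11]
    [3, 7, 0, 1, 7, 3, 9, 10, 11, 15] = true := by decide +kernel

theorem t17 : chkQ 10 gens bs p17 7 [7, 2, 0, 3]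
    [11, 8, 10, 1, 2, 7, 2, 4, 9, 15, 12, 10, 15, 10] = true := by decide +kernel

theorem t18 : chkQ 10 gens bs p18 7 [3, 10, 15, 8]
    [0, 7, 2, 4, 7, 11, 15, 12] = true := by decide +kernel

theorem t19 : chkQ 10 gens bs p19 7 [0, 2, 6, 7, 5]
    [13, 15, 14, 10, 8, 7, 5, 4, 3, 15, 11, 12, 13] = true := by decide +kernel

theorem t20 : chkQ 10 gens bs p20 7 [0, 2, 15, 11]
    [3, 7, 10, 8, 4, 3, 7, 12, 15, 11] = true := by decide +kernel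

theorem t21 : chkQ 10 gens bs p21 7 [15, 2, 0, 11]
    [3, 8, 10, 7, 1, 7, 3, 6, 2, 15, 9, 10, 14, 11] = true := by decide +kernel

theorem t22 : chkQ 10 gens bs p22 7 [0, 3, 10, 7]
    [15, 2, 11, 8, 3, 6, 2, 1, 7, 10, 14, 11, 15, 9] = true := by decide +kernel

theorem t23 : chkQ 10 gens bs p23 7 [0, 11, 15, 2]
    [10, 7, 3, 8, 6, 3, 7, 2, 11, 14, 10, 15] = true := by decide +kernel

theorem t24 : chkQ 10 gens bs p24 7 [2, 0, 7, 11]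
    [3, 15, 8, 3, 5, 7, 13, 11, 10, 15] = true := by decide +kernel

theorem t25 : chkQ 10 gens bs p25 7 [0, 3, 7, 2]
    [10, 15, 11, 8, 7, 2, 3, 5, 15, 13, 11, 10] = true := by decide +kernel

theorem t26 : chkQ 10 gens bs p26 7 [7, 2, 0, 3]
    [11, 8, 1, 15, 9, 10] = true := by decide +kernel

theorem t27 : chkQ 10 gens bs p27 7 [2, 0, 15, 3]
    [11, 7, 8, 3, 7, 10, 15, 11] = true := by decide +kernel

theorem t28 : chkQ 10 gens bs p28 7 [0, 3, 15, 10]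
    [2, 7, 11, 8, 7, 4, 4, 5, 12, 15, 13, 12] = true := by decide +kernel

theorem t29 : chkQ 10 gens bs p29 7 [7, 2, 0, 3]
    [11, 8, 5, 15, 13, 10] = true := by decide +kernel

theorem t30 : chkQ 10 gens bs p30 7 [2, 0, 11, 15]
    [7, 3, 8, 5, 7, 13, 10, 15] = true := by decide +kernel

theorem t31 : chkQ 10 gens bs p31 7 [7, 3, 2, 8]
    [0, 0, 11, 15, 8, 10] = true := by decide +kernel

theorem t32 : chkQ 10 gens bs p32 7 [0, 3, 10, 7]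
    [15, 2, 2, 7, 11, 8, 15, 10] = true := by decide +kernel

theorem t33 : chkQ 10 gens bs p33 7 [0, 15, 2, 3]
    [11, 10, 7, 8, 7, 3, 1, 2, 6, 11, 15, 14, 10, 9] = true := by decide +kernel

theorem t34 : chkQ 10 gens bs p34 7 [0, 2, 7, 3]
    [11, 15, 10, 8, 7, 3, 7, 6, 15, 14, 15, 11] = true := by decide +kernel

theorem t35 : chkQ 10 gens bs p35 7 [7, 2, 0, 3]
    [11, 8, 10, 5, 3, 15, 11, 13] = true := by decide +kernel

theorem t36 : chkQ 10 gens bs p36 7 [4, 11, 7, 10, 7]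
    [15, 2, 15, 3, 5, 3, 6, 13, 12, 14, 11] = true := by decide +kernel

theorem t37 : chkQ 10 gens bs p37 7 [0, 2, 15, 11]
    [3, 7, 10, 8, 4, 7, 12, 15] = true := by decide +kernel

theorem t38 : chkQ 10 gens bs p38 7 [0, 7, 2, 11]
    [3, 10, 5, 15, 8, 13] = true := by decide +kernel

theorem t39 : chkQ 10 gens bs p39 7 [0, 2, 5, 4, 15]
    [7, 12, 13, 10, 8, 5, 2, 4, 10, 13, 12] = true := by decide +kernel

theorem t40 : chkQ 10 gens bs p40 7 [0, 7, 2, 11, 15]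
    [7, 3, 10, 15, 8, 4, 1, 12, 9] = true := by decide +kernel

theorem t41 : chkQ 10 gens bs p41 7 [2, 8, 15, 11]
    [3, 7, 0, 7, 10, 15] = true := by decide +kernel

theorem D_t : ∀ x ∈ D, ∃ a b, chkQ 10 gens bs x.1 7 a b = true :=
  List.forall_mem_cons.2 ⟨⟨_, _, t0⟩, List.forall_mem_cons.2 ⟨⟨_, _, t1⟩, List.forall_mem_cons.2 ⟨⟨_, _, t2⟩, List.forall_mem_cons.2 ⟨⟨_, _, t3⟩, 
  List.forall_mem_cons.2 ⟨⟨_, _, t4⟩, List.forall_mem_cons.2 ⟨⟨_, _, t5⟩, List.forall_mem_cons.2 ⟨⟨_, _, t6⟩, List.forall_mem_cons.2 ⟨⟨_, _, t7⟩, 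
  List.forall_mem_cons.2 ⟨⟨_, _, t8⟩, List.forall_mem_cons.2 ⟨⟨_, _, t9⟩, List.forall_mem_cons.2 ⟨⟨_, _, t10⟩, List.forall_mem_cons.2 ⟨⟨_, _, t11⟩, 
  List.forall_mem_cons.2 ⟨⟨_, _, t12⟩, List.forall_mem_cons.2 ⟨⟨_, _, t13⟩, List.forall_mem_cons.2 ⟨⟨_, _, t14⟩, List.forall_mem_cons.2 ⟨⟨_, _, t15⟩, 
  List.forall_mem_cons.2 ⟨⟨_, _, t16⟩, List.forall_mem_cons.2 ⟨⟨_, _, t17⟩, List.forall_mem_cons.2 ⟨⟨_, _, t18⟩, List.forall_mem_cons.2 ⟨⟨_, _, t19⟩, 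
  List.forall_mem_cons.2 ⟨⟨_, _, t20⟩, List.forall_mem_cons.2 ⟨⟨_, _, t21⟩, List.forall_mem_cons.2 ⟨⟨_, _, t22⟩, List.forall_mem_cons.2 ⟨⟨_, _, t23⟩, 
  List.forall_mem_cons.2 ⟨⟨_, _, t24⟩, List.forall_mem_cons.2 ⟨⟨_, _, t25⟩, List.forall_mem_cons.2 ⟨⟨_, _, t26⟩, List.forall_mem_cons.2 ⟨⟨_, _, t27⟩, 
  List.forall_mem_cons.2 ⟨⟨_, _, t28⟩, List.forall_mem_cons.2 ⟨⟨_, _, t29⟩, List.forall_mem_cons.2 ⟨⟨_, _, t30⟩, List.forall_mem_cons.2 ⟨⟨_, _, t31⟩, 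
  List.forall_mem_cons.2 ⟨⟨_, _, t32⟩, List.forall_mem_cons.2 ⟨⟨_, _, t33⟩, List.forall_mem_cons.2 ⟨⟨_, _, t34⟩, List.forall_mem_cons.2 ⟨⟨_, _, t35⟩, 
  List.forall_mem_cons.2 ⟨⟨_, _, t36⟩, List.forall_mem_cons.2 ⟨⟨_, _, t37⟩, List.forall_mem_cons.2 ⟨⟨_, _, t38⟩, List.forall_mem_cons.2 ⟨⟨_, _, t39⟩, 
  List.forall_mem_cons.2 ⟨⟨_, _, t40⟩, List.forall_mem_cons.2 ⟨⟨_, _, t41⟩, List.forall_mem_nil _⟩⟩⟩⟩⟩⟩⟩⟩⟩⟩⟩⟩⟩⟩⟩⟩⟩⟩⟩⟩⟩⟩⟩⟩⟩⟩⟩⟩⟩⟩⟩⟩⟩⟩⟩⟩⟩⟩⟩⟩⟩⟩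

theorem pq7_N : ∀ g ∈ N, PQ N 7 g :=
  pq_of_cover (fun _ ha _ hx => A_conj ha hx) cov fun x hx r hr hrp => by
    obtain ⟨a, b, h⟩ := D_t x hx
    exact pq_of tabs_ok base_ok h hr hrp

/-- the word of an element of order seven -/
def xw : List ℕ := [0, 2, 3, 15]

/-- the word of an element conjugating it to its cube -/
def hw : List ℕ := [2, 3, 10, 7, 13, 15, 13, 15, 11, 7, 2, 3, 14]

theorem chk_x : chkPow 10 gens bs xw 7 = true := by decide +kernel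

theorem chk_h : chkL gens.length hw = true := by decide +kernel

theorem chk_ne : Nat.beq (evw 10 gens xw 0) 0 = false := by decide +kernel

theorem chk_rel : allL bs (fun b => Nat.beq (evw 10 gens (hw ++ xw) b) (evw 10 gens (xw ++ (xw ++ (xw ++ hw))) b)) = true := by
  decide +kernel

theorem exists_x : ∃ x h : N, orderOf x = 7 ∧ h * x * h⁻¹ = x ^ 3 := by
  obtain ⟨x, hx, hx7⟩ := exists_pow tabs_ok base_ok chk_x
  obtain ⟨h, hh, hhp⟩ := exists_evw tabs_ok hw (chkL_iff _ hw chk_h)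
  have hv : Val N 10 gens hw h := ⟨hh, hhp⟩
  have h1 : h * x = x * (x * (x * h)) := by
    have hL := hv.mul hx
    have hR := hx.mul (hx.mul (hx.mul hv))
    refine base_ok.eq hL.1 hR.1 fun b hb => Fin.ext ?_
    rw [hL.2, hR.2]
    exact Nat.eq_of_beq_eq_true (allL_iff chk_rel b hb)
  have hx1 : x ≠ 1 := by
    intro h0
    have h2 := hx.2 0
    rw [h0] at h2
    have h3 : Nat.beq (evw 10 gens xw 0) 0 = true := by
      rw [Nat.beq_eq]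
      exact h2.symm
    rw [chk_ne] at h3
    exact Bool.false_ne_true h3
  have : Fact (Nat.Prime 7) := ⟨by norm_num⟩
  refine ⟨⟨x, hx.1⟩, ⟨h, hh⟩, orderOf_eq_prime (Subtype.ext hx7) (fun h0 => hx1 (congrArg Subtype.val h0)), ?_⟩
  apply Subtype.ext
  show h * x * h⁻¹ = x ^ 3
  rw [h1, pow_succ, pow_two]
  group

theorem row3_N : Row3 N := by
  obtain ⟨x, h, hx, hh⟩ := exists_x
  refine row3_of_seven (by rw [card_N]; norm_num) hx hh fun g => ?_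
  obtain ⟨a, ha, b, hb, e, ha7, hb7⟩ := pq7_N g g.2
  exact ⟨⟨a, ha⟩, ⟨b, hb⟩, Subtype.ext e, Subtype.ext ha7, Subtype.ext hb7⟩

/-- **the row `Co3` of S4173, S2464, S2452** -/
theorem row3_co3 {S : Type*} [Group S] (h : Spor.IsoCo3 S) : Row3 S := by
  obtain ⟨e⟩ := h
  exact row3_N.of_equiv (e.trans eN)

theorem tc_co3 {S : Type*} [Group S] (h : Spor.IsoCo3 S) :
    ∃ a b : S, ∀ g : S, g ≠ 1 → ∃ u v : S, g = (u * a * u⁻¹) * (v * b * v⁻¹) := (row3_co3 h).tc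

end Cfsg.Agent.H763.TC.Co3
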