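import Cfsg.Agent.H763.Fi22.Pw
import Cfsg.Agent.H763.TC.Gen

/-!
# S4173, S2464, S2452: the row `Fi22` (helper763)

Every element of `Fi22` is a product of two elements with seventh power `1` (`q7`); the elements of order `7` form one class
(Sylow, and `h x h⁻¹ = x³` in a subgroup `S₇`).
-/

set_option autoImplicit false
set_option maxRecDepth 100000
set_option exponentiation.threshold 300000

namespace Cfsg.Agent.H763.TC.Fi22

open Cfsg Cfsg.Agent.H123.Cls Cfsg.Agent.H123.Cls.FiDat
open Cfsg.Agent.H494.F22 (rho rho_injective S S_val wS wS_nil wS_cons wS_append wS_rp rel chkRel rp N card_N tb)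
open Cfsg.Agent.H763.Fi22.Pw (q7 el_pow rho_el lt10)
open Cfsg.Agent.H210.TC (Row3)

/-- the word of an element of order seven -/
def xw : List ℕ := [3, 2, 1, 0, 5, 4]

/-- the word of an element conjugating it to its cube -/
def hw : List ℕ := [1, 2, 1, 3, 2, 4, 5]

theorem chk_x : chkRel (rp 7 xw, []) = true := by decide +kernel

theorem chk_h : chkRel (hw ++ xw, xw ++ (xw ++ (xw ++ hw))) = true := by decide +kernel

theorem xw_lt : ∀ x ∈ xw, x < 9 := by decide

theorem hw_lt : ∀ x ∈ hw, x < 9 := by decide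

theorem chk_ne : Nat.beq (lk 12 (tb 3) (lk 12 (tb 2) (lk 12 (tb 1) (lk 12 (tb 0) (lk 12 (tb 5) (lk 12 (tb 4) 0)))))) 0 = false := by
  decide +kernel

theorem ne_one : el xw ≠ 1 := by
  intro h0
  have h1 : wS xw = 1 := by rw [← rho_el xw_lt, h0, map_one]
  have h2 : ((wS xw 0 : Fin 3510) : ℕ) = 0 := by rw [h1]; rfl
  have h3 : ((wS xw 0 : Fin 3510) : ℕ) =
      lk 12 (tb 3) (lk 12 (tb 2) (lk 12 (tb 1) (lk 12 (tb 0) (lk 12 (tb 5) (lk 12 (tb 4) 0))))) := by
    unfold xw
    simp only [wS_cons, wS_nil, mul_one, Equiv.Perm.mul_apply]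
    rw [S_val (by norm_num), S_val (by norm_num), S_val (by norm_num), S_val (by norm_num), S_val (by norm_num),
      S_val (by norm_num)]
    rfl
  rw [h2] at h3
  have h4 := chk_ne
  rw [← h3] at h4
  exact Bool.noConfusion h4

theorem rel_h : el hw * el xw = el xw * (el xw * (el xw * el hw)) := by
  apply rho_injective
  have hx := lt10 xw_lt
  have hh := lt10 hw_lt
  have h1 := rel (u := hw ++ xw) (u' := xw ++ (xw ++ (xw ++ hw)))
    (fun z hz => (List.mem_append.1 hz).elim (hh z) (hx z))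
    (fun z hz => (List.mem_append.1 hz).elim (hx z) fun hz => (List.mem_append.1 hz).elim (hx z) fun hz =>
      (List.mem_append.1 hz).elim (hx z) (hh z)) chk_h
  rw [wS_append, wS_append, wS_append, wS_append, ← rho_el xw_lt, ← rho_el hw_lt] at h1
  simpa only [map_mul] using h1

theorem card22 : Nat.card Spor.Fi22 = 64561751654400 := by
  rw [← card_N]
  exact Nat.card_congr (MonoidHom.ofInjective rho_injective).toEquiv

theorem row3_Fi22 : Row3 Spor.Fi22 := by
  have : Finite Spor.Fi22 := Finite.of_injective _ rho_injective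
  have : Fact (Nat.Prime 7) := ⟨by norm_num⟩
  refine row3_of_seven (x := el xw) (h := el hw) (by rw [card22]; norm_num)
    (orderOf_eq_prime (el_pow xw_lt chk_x) ne_one) ?_ q7
  rw [rel_h, pow_succ, pow_two]
  group

/-- **the row `Fi22` of S4173, S2464, S2452** -/
theorem row3_fi22 {S : Type*} [Group S] (h : Spor.IsoFi22 S) : Row3 S := by
  obtain ⟨e⟩ := h
  exact row3_Fi22.of_equiv e

theorem tc_fi22 {S : Type*} [Group S] (h : Spor.IsoFi22 S) :
    ∃ a b : S, ∀ g : S, g ≠ 1 → ∃ u v : S, g = (u * a * u⁻¹) * (v * b * v⁻¹) := (row3_fi22 h).tc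

end Cfsg.Agent.H763.TC.Fi22
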